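import Groth.Agent.Germs91.WRetract
import Groth.Agent.Spec91.WLocalEmb
import Groth.Agent.Ind91.LocIdentFibre
import Groth.Agent.WE91.Local
import Mathlib.Topology.ExtremallyDisconnected

universe u

open Topology

namespace Groth.Agent.Germs91

variable {A : Type u} [CommRing A] (hw : ProEtW.IsWLocal (PrimeSpectrum A))
  [hed : ExtremallyDisconnected (ConnectedComponents (PrimeSpectrum A))]
include hw hed

/-- Over a w-local ring with extremally disconnected components, a surjective spectrum with bijective
local maps over closed points gives a retraction. -/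
theorem exists_retraction_of_bijective (B : Type u) [CommRing B] [Algebra A B]
    (hsurj : Function.Surjective (PrimeSpectrum.comap (algebraMap A B)))
    (hloc : ∀ y : PrimeSpectrum B, IsClosed ({PrimeSpectrum.comap (algebraMap A B) y} : Set (PrimeSpectrum A)) →
      Function.Bijective (Localization.localRingHom
        (y.asIdeal.comap (algebraMap A B)) y.asIdeal (algebraMap A B) rfl)) :
    Nonempty (B →ₐ[A] A) := by
  have := hw.1
  obtain ⟨_, _, _⟩ := Spec91.closedPoints_profinite hw.2.1
  have := Spec91.t2Space_connectedComponents (X := PrimeSpectrum A)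
  let φ : CP A → ConnectedComponents (PrimeSpectrum A) := fun x => ConnectedComponents.mk x.1
  have hφ : Continuous φ := ConnectedComponents.continuous_coe.comp continuous_subtype_val
  have : ExtremallyDisconnected (CP A) := extremallyDisconnected_of_homeo
    (Continuous.homeoOfEquivCompactToT2 (f := Equiv.ofBijective φ
      (Spec91.bijective_closedPoints_components hw.2.1 hw.2.2)) hφ).symm
  let Yc : Set (PrimeSpectrum B) :=
    PrimeSpectrum.comap (algebraMap A B) ⁻¹' {x | IsClosed ({x} : Set (PrimeSpectrum A))}
  have hYe : IsClosedEmbedding (Subtype.val : Yc → PrimeSpectrum B) :=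
    (hw.2.1.preimage (PrimeSpectrum.continuous_comap _)).isClosedEmbedding_subtypeVal
  have := Spec91.spectralSpace_of_isClosedEmbedding hYe
  have hpts : ∀ y : Yc, IsClosed ({y} : Set Yc) := fun y => by
    rw [← closure_subset_iff_isClosed]
    intro z hz
    have hyz : y.1 ⤳ z.1 := (subtype_specializes_iff y z).1 (specializes_iff_mem_closure.2 hz)
    have himg : PrimeSpectrum.comap (algebraMap A B) z.1 = PrimeSpectrum.comap (algebraMap A B) y.1 :=
      (hyz.map (PrimeSpectrum.continuous_comap _)).mem_closed y.2 (Set.mem_singleton _)
    refine Set.mem_singleton_iff.2 (Subtype.ext ?_)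
    exact (Ind91.eq_of_le_of_comap_eq z.1.asIdeal (hloc z.1 z.2)
      ((PrimeSpectrum.le_iff_specializes _ _).2 hyz) himg.symm).symm
  obtain ⟨_, _⟩ := Spec91.t2Space_of_forall_isClosed (X := Yc) hpts
  let π : Yc → CP A := fun y => ⟨PrimeSpectrum.comap (algebraMap A B) y.1, y.2⟩
  have hπ : Continuous π :=
    ((PrimeSpectrum.continuous_comap _).comp continuous_subtype_val).subtype_mk _
  have hπs : Function.Surjective π := fun x => by
    obtain ⟨y, hy⟩ := hsurj x.1
    exact ⟨⟨y, show IsClosed ({PrimeSpectrum.comap (algebraMap A B) y} : Set _) by rw [hy]; exact x.2⟩,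
      Subtype.ext hy⟩
  obtain ⟨s, hs, hsec⟩ := CompactT2.ExtremallyDisconnected.projective (A := CP A) continuous_id hπ hπs
  exact exists_retraction_of_section hw (fun x => (s x).1) (continuous_subtype_val.comp hs)
    (fun x => congrArg Subtype.val (congrFun hsec x)) (fun x => hloc (s x).1 (s x).2)

/-- The ring is w-contractible if moreover it is strictly henselian at closed points. -/
theorem isWContractible_of_strictlyHenselian
    (hsh : ∀ (m : Ideal A) [m.IsMaximal], EtCoh.IsStrictlyHenselianLocalRing (Localization.AtPrime m)) :
    EtPBC.IsWContractible A := by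
  intro B _ _ hff hwe
  refine exists_retraction_of_bijective hw B PrimeSpectrum.comap_surjective_of_faithfullyFlat fun y hy => ?_
  have : (y.asIdeal.comap (algebraMap A B)).IsMaximal :=
    (PrimeSpectrum.isClosed_singleton_iff_isMaximal _).1 hy
  exact WE91.bijective_localRingHom_of_strictlyHenselian _ _ rfl (hsh (y.asIdeal.comap (algebraMap A B)))

omit hw hed in
theorem hasIndEtaleRetractions_of_isWContractible (h : EtPBC.IsWContractible A) :
    ProEtW.HasIndEtaleRetractions A := fun B _ _ hff hB =>
  h B hff (Ind91.weaklyEtale_of_isIndEtale hB)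

end Groth.Agent.Germs91
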