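import Groth.Agent.Germs91.Constructible
import Groth.Agent.Germs91.WContract
import Groth.Agent.Ind91.EtTower
import Groth.Agent.Ind91.StrictHens
import Groth.Agent.WE91.Fibre
import Groth.Agent.S14620

universe u

open Topology

namespace Groth.Agent.Germs91

/-- Germs along primes with extremally disconnected parameter space and strictly henselian local
rings form a w-contractible ring. -/
theorem isWContractible_germ {A : Type u} [CommRing A] {T : Type u} [TopologicalSpace T] [CompactSpace T]
    [T2Space T] [TotallyDisconnectedSpace T] [ExtremallyDisconnected T] (P : T → PrimeSpectrum A)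
    (hP : ∀ a : A, IsClopen {t | a ∉ (P t).asIdeal})
    (hsh : ∀ t, EtCoh.IsStrictlyHenselianLocalRing (Localization.AtPrime (P t).asIdeal)) :
    EtPBC.IsWContractible (Germ (pc P)) := by
  obtain ⟨e, -⟩ := exists_components_homeo P hP
  have : ExtremallyDisconnected (ConnectedComponents (PrimeSpectrum (Germ (pc P)))) :=
    extremallyDisconnected_of_homeo e.symm
  refine isWContractible_of_strictlyHenselian (isWLocal P hP) fun M hM => ?_
  let q : PrimeSpectrum (Germ (pc P)) := ⟨M, hM.isPrime⟩
  let t := pt (pc P) (pc_open P hP) q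
  have hq : q = closedPt P t :=
    (isClosed_iff P hP q).1 ((PrimeSpectrum.isClosed_singleton_iff_isMaximal _).2 hM)
  have hp : (P t).asIdeal = M.comap (algebraMap A (Germ (pc P))) := by
    rw [← comap_closedPt P t, ← hq]
    rfl
  have key : ∀ (p : Ideal A) [p.IsPrime] (hpM : p = M.comap (algebraMap A (Germ (pc P)))),
      Function.Bijective (Localization.localRingHom p M (algebraMap A (Germ (pc P))) hpM) := by
    intro p _ h
    subst h
    exact Ind91.identifiesLocalRings_of_isIndZariski (isIndZariski_germ _ (pc_open P hP)) q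
  let e' := RingEquiv.ofBijective _ (key (P t).asIdeal hp)
  have : IsLocalHom e'.toRingHom := IsLocalHom.mk fun x hx => (MulEquiv.isUnit_map e'.toMulEquiv).1 hx
  exact S14620.result e'.toRingHom (RingHom.Finite.of_surjective _ e'.surjective) (hsh t)

/-- Every ring has a faithfully flat ind-etale w-contractible algebra. -/
theorem exists_wContractible_cover (A : Type u) [CommRing A] :
    ∃ (D : Type u) (_ : CommRing D) (_ : Algebra A D),
      Module.FaithfullyFlat A D ∧ EtPBC.IsIndEtale A D ∧ EtPBC.IsWContractible D := by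
  have hS := pc_open _ (consPt_clopen A)
  let A₁ := WLoc A
  have hw₁ : ProEtW.IsWLocal (PrimeSpectrum A₁) := isWLocal _ (consPt_clopen A)
  let C := Ind91.TowerLim A₁
  have hff₂ : Module.FaithfullyFlat A₁ C := Ind91.faithfullyFlat_lim A₁
  have := Ind91.weaklyEtale_of_isIndEtale (Ind91.isIndEtale_lim A₁)
  let Z : Set (PrimeSpectrum C) :=
    PrimeSpectrum.comap (algebraMap A₁ C) ⁻¹' {x | IsClosed ({x} : Set (PrimeSpectrum A₁))}
  have hZ : IsClosed Z := hw₁.2.1.preimage (PrimeSpectrum.continuous_comap _)
  have hmax : ∀ z ∈ Z, (z : PrimeSpectrum C).asIdeal.IsMaximal := fun z hz => by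
    obtain ⟨M, hM, hle⟩ := Ideal.exists_le_maximal z.asIdeal z.isPrime.ne_top
    have hzmax : (z.asIdeal.comap (algebraMap A₁ C)).IsMaximal :=
      (PrimeSpectrum.isClosed_singleton_iff_isMaximal _).1 hz
    rw [WE91.eq_of_le_of_comap_eq z.asIdeal M hle
      (hzmax.eq_of_le (Ideal.comap_ne_top _ hM.ne_top) (Ideal.comap_mono hle))]
    exact hM
  have hsp := Spec91.spectralSpace_of_isClosedEmbedding hZ.isClosedEmbedding_subtypeVal
  obtain ⟨_, _⟩ := Spec91.t2Space_of_forall_isClosed (X := Z) fun z => by
    have h : ({z} : Set Z) = Subtype.val ⁻¹' {z.1} := by ext; simp [Subtype.ext_iff]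
    rw [h]
    exact ((PrimeSpectrum.isClosed_singleton_iff_isMaximal _).2 (hmax z.1 z.2)).preimage
      continuous_subtype_val
  let T : Type u := Ultrafilter Z
  have : ExtremallyDisconnected T := CompactT2.Projective.extremallyDisconnected (projective_ultrafilter (Z : Type u))
  let g : T → Z := Ultrafilter.extend id
  let P : T → PrimeSpectrum C := fun t => (g t).1
  have hP : ∀ c : C, IsClopen {t | c ∉ (P t).asIdeal} := fun c => by
    refine IsClopen.preimage (f := g) ⟨IsCompact.isClosed ?_,
      (PrimeSpectrum.basicOpen c).2.preimage continuous_subtype_val⟩ (continuous_ultrafilter_extend id)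
    rw [Topology.IsEmbedding.subtypeVal.isCompact_iff]
    show IsCompact (Subtype.val '' {z : Z | c ∉ (z : PrimeSpectrum C).asIdeal})
    have : Subtype.val '' {z : Z | c ∉ (z : PrimeSpectrum C).asIdeal} =
        (PrimeSpectrum.basicOpen c : Set (PrimeSpectrum C)) ∩ Z := by
      ext x
      exact ⟨by rintro ⟨t, ht, rfl⟩; exact ⟨ht, t.2⟩, fun h => ⟨⟨x, h.2⟩, h.1, rfl⟩⟩
    rw [this]
    exact (PrimeSpectrum.isCompact_basicOpen c).inter_right hZ
  let D := Germ (pc P)
  letI : Algebra A C := ((algebraMap A₁ C).comp (algebraMap A A₁)).toAlgebra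
  have : IsScalarTower A A₁ C := IsScalarTower.of_algebraMap_eq' rfl
  letI : Algebra A D := ((algebraMap C D).comp (algebraMap A C)).toAlgebra
  have : IsScalarTower A C D := IsScalarTower.of_algebraMap_eq' rfl
  have hAC : EtPBC.IsIndEtale A C :=
    Ind91.isIndEtale_trans (Ind91.isIndEtale_of_isIndZariski (isIndZariski_germ _ hS))
      (Ind91.isIndEtale_lim A₁)
  have hAD : EtPBC.IsIndEtale A D :=
    Ind91.isIndEtale_trans hAC (Ind91.isIndEtale_of_isIndZariski (isIndZariski_germ _ (pc_open P hP)))
  refine ⟨D, inferInstance, inferInstance, ?_, hAD, isWContractible_germ P hP fun t => ?_⟩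
  · have := Ind91.flat_of_isIndEtale hAD
    refine Module.FaithfullyFlat.of_comap_surjective fun x => ?_
    let t₁ : ConsSpec A := WithTopology.toTopology _ x
    obtain ⟨c, hc⟩ := PrimeSpectrum.comap_surjective_of_faithfullyFlat (A := A₁) (B := C)
      (closedPt (consPt A) t₁)
    have hcZ : c ∈ Z := by
      show IsClosed ({PrimeSpectrum.comap (algebraMap A₁ C) c} : Set (PrimeSpectrum A₁))
      rw [hc]
      exact (isClosed_iff _ (consPt_clopen A) _).2 (by rw [pt_closedPt _ (consPt_clopen A)])
    refine ⟨closedPt P (pure ⟨c, hcZ⟩), ?_⟩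
    have hg : g (pure ⟨c, hcZ⟩) = ⟨c, hcZ⟩ := congrFun (ultrafilter_extend_extends id) _
    rw [IsScalarTower.algebraMap_eq A C D, PrimeSpectrum.comap_comp_apply, comap_closedPt,
      show P (pure ⟨c, hcZ⟩) = c from congrArg Subtype.val hg, IsScalarTower.algebraMap_eq A A₁ C,
      PrimeSpectrum.comap_comp_apply, hc, comap_closedPt]
  · have := hmax (P t) (g t).2
    exact ⟨Ind91.henselianLocalRing_localization (Ind91.hasEtaleRetractions_lim A₁) (P t).asIdeal,
      Ind91.isSepClosed_residueField (Ind91.hasEtaleRetractions_lim A₁) (P t).asIdeal⟩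

end Groth.Agent.Germs91
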