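import Groth.Agent.Spec91.WLocal
import Groth.Agent.Henz21.IntegralLoc
import Groth.Agent.WE91.LocalIntegral
import Groth.Agent.S14620
import Groth.Prelude.Def_ProEtW
import Mathlib.RingTheory.Localization.Finiteness
import Mathlib.RingTheory.Localization.LocalizationLocalization

universe u

open Topology

namespace Groth.Agent.Germs91

variable {A B : Type u} [CommRing A] [CommRing B] [Algebra A B] [Module.Finite A B]

/-- Over a henselian local ring a prime of a finite algebra has a unique closed specialization. -/
theorem eq_of_le_maximal (m : Ideal A) [m.IsMaximal] [HenselianLocalRing (Localization.AtPrime m)]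
    (q : Ideal B) [q.IsPrime] (M₁ M₂ : Ideal B) [M₁.IsMaximal] [M₂.IsMaximal] (h₁ : q ≤ M₁) (h₂ : q ≤ M₂)
    (hm₁ : M₁.comap (algebraMap A B) = m) (hm₂ : M₂.comap (algebraMap A B) = m) : M₁ = M₂ := by
  let D := B ⧸ q
  let N := Algebra.algebraMapSubmonoid D m.primeCompl
  have hN : N ≤ nonZeroDivisors D := by
    rintro _ ⟨a, ha, rfl⟩
    refine mem_nonZeroDivisors_of_ne_zero fun h => ha ?_
    rw [IsScalarTower.algebraMap_apply A B D, Ideal.Quotient.algebraMap_eq,
      Ideal.Quotient.eq_zero_iff_mem] at h
    exact hm₁.le (h₁ h)
  let D' := Localization N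
  have : IsDomain D' := IsLocalization.isDomain_localization hN
  have : Module.Finite (Localization.AtPrime m) D' := inferInstance
  have : Algebra.IsIntegral (Localization.AtPrime m) D' := Algebra.IsIntegral.of_finite _ _
  have := WE91.isLocalRing_of_isIntegral_of_isDomain (Localization.AtPrime m) D'
  have key : ∀ (M : Ideal B) [M.IsMaximal], q ≤ M → M.comap (algebraMap A B) = m →
      M = ((IsLocalRing.maximalIdeal D').comap (algebraMap D D')).comap (Ideal.Quotient.mk q) := by
    intro M hM hqM hmM
    let Mb := M.map (Ideal.Quotient.mk q)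
    have hMb : Mb.IsMaximal := Ideal.IsMaximal.map_of_surjective_of_ker_le Ideal.Quotient.mk_surjective
      (by rwa [Ideal.mk_ker])
    have hcM : Mb.comap (Ideal.Quotient.mk q) = M := by
      rw [Ideal.comap_map_quotientMk, sup_eq_right.mpr hqM]
    have hd : Disjoint (N : Set D) Mb := Set.disjoint_left.2 (by
      rintro _ ⟨a, ha, rfl⟩ haM
      refine ha ?_
      rw [← hmM, SetLike.mem_coe, Ideal.mem_comap, ← hcM, Ideal.mem_comap]
      exact haM)
    have hp := IsLocalization.isPrime_of_isPrime_disjoint N D' Mb hMb.isPrime hd
    have hle := IsLocalRing.le_maximalIdeal hp.ne_top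
    have h : (Mb.map (algebraMap D D')).comap (algebraMap D D') = Mb :=
      IsLocalization.comap_map_of_isPrime_disjoint N D' hMb.isPrime hd
    refine Ideal.IsMaximal.eq_of_le hM (Ideal.comap_ne_top _ (Ideal.comap_ne_top _
      (IsLocalRing.maximalIdeal.isMaximal D').ne_top)) ?_
    calc M = Mb.comap (Ideal.Quotient.mk q) := hcM.symm
      _ = ((Mb.map (algebraMap D D')).comap (algebraMap D D')).comap (Ideal.Quotient.mk q) := by rw [h]
      _ ≤ _ := Ideal.comap_mono (Ideal.comap_mono hle)
  rw [key M₁ h₁ hm₁, key M₂ h₂ hm₂]

/-- Localizations at maximal ideals of finite algebras over strictly henselian points. -/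
theorem strictlyHenselian_of_finite (M : Ideal B) [M.IsMaximal] (m : Ideal A) [m.IsMaximal]
    (hm : M.comap (algebraMap A B) = m)
    (hsh : EtCoh.IsStrictlyHenselianLocalRing (Localization.AtPrime m)) :
    EtCoh.IsStrictlyHenselianLocalRing (Localization.AtPrime M) := by
  obtain ⟨hh, hsep⟩ := hsh
  let N := Algebra.algebraMapSubmonoid B m.primeCompl
  let E := Localization N
  have hd : Disjoint (N : Set B) M := Set.disjoint_left.2 (by
    rintro _ ⟨a, ha, rfl⟩ haM
    exact ha (hm.le haM))
  let Q := M.map (algebraMap B E)
  have hQc : Q.comap (algebraMap B E) = M :=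
    IsLocalization.comap_map_of_isPrime_disjoint N E (inferInstance : M.IsMaximal).isPrime hd
  have hQp : Q.IsPrime := IsLocalization.isPrime_of_isPrime_disjoint N E M inferInstance hd
  have hQm : Q.comap (algebraMap (Localization.AtPrime m) E) = IsLocalRing.maximalIdeal _ := by
    refine IsLocalization.orderEmbedding m.primeCompl (Localization.AtPrime m) |>.injective ?_
    show Ideal.comap (algebraMap A _) _ = Ideal.comap (algebraMap A _) _
    rw [Ideal.comap_comap, ← IsScalarTower.algebraMap_eq, IsScalarTower.algebraMap_eq A B E,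
      ← Ideal.comap_comap, hQc, hm, ← Ideal.under_def, Localization.AtPrime.comap_maximalIdeal]
  have : Q.IsMaximal := by
    refine Ideal.isMaximal_of_isIntegral_of_isMaximal_comap (R := Localization.AtPrime m) Q ?_
    rw [hQm]; infer_instance
  have : Algebra.IsIntegral (Localization.AtPrime m) E := Algebra.IsIntegral.of_finite _ _
  let EQ := Localization.AtPrime Q
  have hEQ : IsLocalization.AtPrime EQ M := by
    have := IsLocalization.isLocalization_isLocalization_atPrime_isLocalization N EQ Q
    simpa only [hQc] using this
  let e : EQ ≃ₐ[B] Localization.AtPrime M := IsLocalization.algEquiv M.primeCompl _ _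
  let f : Localization.AtPrime m →+* Localization.AtPrime M :=
    e.toRingEquiv.toRingHom.comp ((algebraMap E EQ).comp (algebraMap (Localization.AtPrime m) E))
  have hf : f.Finite := (RingHom.Finite.of_surjective _ e.surjective).comp
    ((RingHom.Finite.of_surjective _ (Henz21.algebraMap_localization_surjective (A := Localization.AtPrime m) Q)).comp
      (RingHom.finite_algebraMap.2 inferInstance))
  have : IsLocalHom f := by
    refine IsLocalHom.mk fun x hx => by_contra fun hn => ?_
    have hxQ : algebraMap (Localization.AtPrime m) E x ∈ Q := by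
      rw [← Ideal.mem_comap, hQm]; exact hn
    have h1 : IsUnit (algebraMap E EQ (algebraMap (Localization.AtPrime m) E x)) :=
      (MulEquiv.isUnit_map e.toRingEquiv.toMulEquiv).1 hx
    exact (IsLocalization.AtPrime.isUnit_to_map_iff EQ Q _).1 h1 hxQ
  exact S14620.result f hf ⟨hh, hsep⟩

end Groth.Agent.Germs91
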