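import Groth.Agent.Germs91.WLocal
import Mathlib.Topology.Spectral.ConstructibleTopology
import Mathlib.Topology.Connected.Separation
import Mathlib.Topology.Compactification.StoneCech
import Mathlib.Topology.ExtremallyDisconnected

universe u

open Topology

namespace Groth.Agent.Germs91

theorem projective_ultrafilter (α : Type u) : CompactT2.Projective (Ultrafilter α) := by
  intro Y Z _ _ _ _ _ _ f g hf hg hgs
  choose h0 hh0 using fun x : α => hgs (f (pure x))
  refine ⟨Ultrafilter.extend h0, continuous_ultrafilter_extend h0,
    (denseRange_pure.equalizer (hg.comp (continuous_ultrafilter_extend h0)) hf ?_)⟩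
  funext x
  show g ((Ultrafilter.extend h0 ∘ pure) x) = f (pure x)
  rw [ultrafilter_extend_extends]; exact hh0 x

variable {A : Type u} [CommRing A]

theorem totallySeparated_of_injective {T : Type u} [TopologicalSpace T] (P : T → PrimeSpectrum A)
    (hinj : Function.Injective P) (hP : ∀ a : A, IsClopen {t | a ∉ (P t).asIdeal}) :
    TotallySeparatedSpace T := by
  rw [totallySeparatedSpace_iff_exists_isClopen]
  intro x y hxy
  by_cases h : (P x).asIdeal ≤ (P y).asIdeal
  · obtain ⟨a, ha, hax⟩ := SetLike.not_le_iff_exists.1 fun h' =>
      hxy (hinj (PrimeSpectrum.ext (le_antisymm h h')))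
    exact ⟨{t | a ∉ (P t).asIdeal}, hP a, hax, fun h' => h' ha⟩
  · obtain ⟨a, ha, hay⟩ := SetLike.not_le_iff_exists.1 h
    exact ⟨{t | a ∉ (P t).asIdeal}ᶜ, (hP a).compl, fun h' => h' ha, fun h' => h' hay⟩

variable (A)

/-- The spectrum with its constructible topology. -/
abbrev ConsSpec : Type u := WithConstructibleTopology (PrimeSpectrum A)

/-- The underlying prime. -/
abbrev consPt : ConsSpec A → PrimeSpectrum A := WithTopology.ofTopology

theorem consPt_clopen (a : A) : IsClopen {t : ConsSpec A | a ∉ (consPt A t).asIdeal} := by
  constructor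
  · rw [WithConstructibleTopology.isClosed_iff]
    refine @IsClosed.mk _ (constructibleTopology _) _
      (IsCompact.isOpen_constructibleTopology_of_isClosed ?_
        (PrimeSpectrum.basicOpen a).2.isClosed_compl)
    rw [compl_compl]
    exact PrimeSpectrum.isCompact_basicOpen a
  · rw [WithConstructibleTopology.isOpen_iff]
    exact (PrimeSpectrum.isCompact_basicOpen a).isOpen_constructibleTopology_of_isOpen
      (PrimeSpectrum.basicOpen a).2

instance instTotallySeparatedConsSpec : TotallySeparatedSpace (ConsSpec A) :=
  totallySeparated_of_injective (consPt A) (WithTopology.ofTopology_injective _) (consPt_clopen A)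

/-- The w-localization. -/
abbrev WLoc : Type u := Germ (pc (consPt A))

theorem faithfullyFlat_wLoc : Module.FaithfullyFlat A (WLoc A) :=
  faithfullyFlat_germ _ (pc_open _ (consPt_clopen A)) fun x =>
    ⟨WithTopology.toTopology _ x, disjoint_compl_left⟩

/-- An extremally disconnected cover of the constructible spectrum. -/
abbrev EDSpec : Type u := Ultrafilter (ConsSpec A)

/-- The prime attached to a point of the cover. -/
noncomputable abbrev edPt (t : EDSpec A) : PrimeSpectrum A :=
  consPt A (Ultrafilter.extend id t)

theorem edPt_clopen (a : A) : IsClopen {t : EDSpec A | a ∉ (edPt A t).asIdeal} :=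
  (consPt_clopen A a).preimage (continuous_ultrafilter_extend id)

theorem edPt_surjective (x : PrimeSpectrum A) : ∃ t, edPt A t = x := by
  refine ⟨pure (WithTopology.toTopology _ x), ?_⟩
  show consPt A ((Ultrafilter.extend id ∘ pure) (WithTopology.toTopology _ x)) = x
  rw [ultrafilter_extend_extends]; rfl

end Groth.Agent.Germs91
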