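import Groth.Agent.Germs91.WLocal
import Mathlib.RingTheory.Spectrum.Prime.Topology

universe u

open Topology

namespace Groth.Agent.Germs91

variable {A : Type u} [CommRing A]

/-- The closed points, as a family of primes. -/
abbrev CP (A : Type u) [CommRing A] : Type u :=
  {x : PrimeSpectrum A // IsClosed ({x} : Set (PrimeSpectrum A))}

variable (hA : ProEtW.IsWLocal (PrimeSpectrum A))
include hA

theorem cp_clopen (a : A) : IsClopen {t : CP A | a ∉ (t.1).asIdeal} := by
  obtain ⟨_, _, _⟩ := Spec91.closedPoints_profinite hA.2.1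
  refine ⟨IsCompact.isClosed ?_, (PrimeSpectrum.basicOpen a).2.preimage continuous_subtype_val⟩
  rw [Topology.IsEmbedding.subtypeVal.isCompact_iff]
  have : Subtype.val '' {t : CP A | a ∉ (t.1).asIdeal} =
      (PrimeSpectrum.basicOpen a : Set (PrimeSpectrum A)) ∩ {x | IsClosed ({x} : Set (PrimeSpectrum A))} := by
    ext x
    exact ⟨by rintro ⟨t, ht, rfl⟩; exact ⟨ht, t.2⟩, fun h => ⟨⟨x, h.2⟩, h.1, rfl⟩⟩
  rw [this]
  exact (PrimeSpectrum.isCompact_basicOpen a).inter_right hA.2.1

/-- Clopen sets of closed points come from idempotents. -/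
theorem exists_idempotent_of_clopen {V : Set (CP A)} (hV : IsClopen V) :
    ∃ e : A, IsIdempotentElem e ∧ (∀ t ∈ V, e ∉ t.1.asIdeal) ∧ ∀ t ∉ V, e ∈ t.1.asIdeal := by
  obtain ⟨_, _, _⟩ := Spec91.closedPoints_profinite hA.2.1
  have := hA.1
  have := Spec91.t2Space_connectedComponents (X := PrimeSpectrum A)
  let φ : CP A → ConnectedComponents (PrimeSpectrum A) := fun x => ConnectedComponents.mk x.1
  have hφ : Continuous φ := ConnectedComponents.continuous_coe.comp continuous_subtype_val
  have hb : Function.Bijective φ := Spec91.bijective_closedPoints_components hA.2.1 hA.2.2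
  let e := Continuous.homeoOfEquivCompactToT2 (f := Equiv.ofBijective φ hb) hφ
  obtain ⟨a, ha, hae⟩ := PrimeSpectrum.exists_idempotent_basicOpen_eq_of_isClopen
    (((e.symm.continuous.comp ConnectedComponents.continuous_coe) |> hV.preimage))
  refine ⟨a, ha, fun t ht => ?_, fun t ht => ?_⟩
  · have h1 : t.1 ∈ (e.symm ∘ ConnectedComponents.mk) ⁻¹' V := by
      show e.symm (φ t) ∈ V
      rw [show φ t = e t from rfl, e.symm_apply_apply]; exact ht
    rw [hae] at h1
    exact h1
  · by_contra h
    have h1 : t.1 ∈ (PrimeSpectrum.basicOpen a : Set (PrimeSpectrum A)) := h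
    rw [← hae] at h1
    have h2 : e.symm (φ t) ∈ V := h1
    rw [show φ t = e t from rfl, e.symm_apply_apply] at h2
    exact ht h2

/-- A w-local ring is the algebra of germs along its closed points. -/
theorem bijective_algebraMap_germ :
    Function.Bijective (algebraMap A (Germ (pc fun t : CP A => t.1))) := by
  classical
  obtain ⟨_, _, _⟩ := Spec91.closedPoints_profinite hA.2.1
  set P := fun t : CP A => t.1
  have hmax : ∀ M : Ideal A, M.IsMaximal → ∃ t : CP A, t.1.asIdeal = M := fun M hM =>
    ⟨⟨⟨M, hM.isPrime⟩, (PrimeSpectrum.isClosed_singleton_iff_isMaximal _).2 hM⟩, rfl⟩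
  refine ⟨(injective_iff_map_eq_zero _).2 fun a ha => ?_, fun x => ?_⟩
  · by_contra hne
    obtain ⟨M, hM, hle⟩ := Ideal.exists_le_maximal ((⊥ : Ideal A).colon {a})
      (fun h => hne (by
        have h1 := Submodule.mem_colon_singleton.1 (h ▸ Submodule.mem_top : (1 : A) ∈ _)
        simp only [smul_eq_mul, one_mul] at h1
        exact (Submodule.mem_bot A).1 h1))
    obtain ⟨t, ht⟩ := hmax M hM
    have h0 := congrArg (ev (pc P) t) ha
    rw [AlgHom.commutes, map_zero, IsLocalization.map_eq_zero_iff (pc P t)] at h0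
    obtain ⟨⟨g, hg⟩, hga⟩ := h0
    exact hg (show g ∈ t.1.asIdeal by
      rw [ht]; exact hle (Submodule.mem_colon_singleton.2 (by simpa using hga)))
  · let J : Ideal A :=
      { carrier := {c | algebraMap A (Germ (pc P)) c * x ∈ Set.range (algebraMap A (Germ (pc P)))}
        add_mem' := fun ⟨b, hb⟩ ⟨b', hb'⟩ => ⟨b + b', by rw [map_add, map_add, add_mul, hb, hb']⟩
        zero_mem' := ⟨0, by simp⟩
        smul_mem' := fun c y ⟨b, hb⟩ => ⟨c * b, by rw [smul_eq_mul, map_mul, map_mul, mul_assoc, hb]⟩ }
    suffices htop : J = ⊤ by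
      obtain ⟨b, hb⟩ : (1 : A) ∈ J := htop ▸ Submodule.mem_top
      exact ⟨b, by rwa [map_one, one_mul] at hb⟩
    by_contra hne
    obtain ⟨M, hM, hJM⟩ := Ideal.exists_le_maximal J hne
    obtain ⟨t, ht⟩ := hmax M hM
    obtain ⟨U, hU, htU, a, g, hag⟩ := x.2 t
    obtain ⟨V, hV, htV, hVU⟩ := compact_exists_isClopen_in_isOpen hU htU
    obtain ⟨e, he, he1, he0⟩ := exists_idempotent_of_clopen hA hV
    have hin : algebraMap A (Germ (pc P)) (e * g) * x = algebraMap A (Germ (pc P)) (e * a) := by
      refine ext_ev (pc P) fun s => ?_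
      rw [map_mul, AlgHom.commutes, AlgHom.commutes, map_mul, map_mul, mul_assoc]
      by_cases hs : s ∈ V
      · exact congrArg _ (hag s (hVU hs)).2
      · have : algebraMap A (Stalk (pc P) s) e = 0 := by
          rw [IsLocalization.map_eq_zero_iff (pc P s)]
          refine ⟨⟨1 - e, fun h => s.1.isPrime.ne_top ((Ideal.eq_top_iff_one _).2 ?_)⟩, ?_⟩
          · simpa using add_mem h (he0 s hs)
          · show (1 - e) * e = 0
            rw [sub_mul, one_mul, he.eq, sub_self]
        rw [this, zero_mul, zero_mul]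
    have : e * g ∈ J := ⟨e * a, hin.symm⟩
    exact (t.1.isPrime.mul_notMem (he1 t htV) (hag t htU).1) (ht ▸ hJM this)

/-- A continuous section of closed points at which the local rings agree gives a retraction. -/
theorem exists_retraction_of_section {B : Type u} [CommRing B] [Algebra A B]
    (s : CP A → PrimeSpectrum B) (hs : Continuous s)
    (hsec : ∀ t, PrimeSpectrum.comap (algebraMap A B) (s t) = t.1)
    (hloc : ∀ t, Function.Bijective (Localization.localRingHom
      ((s t).asIdeal.comap (algebraMap A B)) (s t).asIdeal (algebraMap A B) rfl)) :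
    Nonempty (B →ₐ[A] A) := by
  classical
  set P := fun t : CP A => t.1
  have hbij : ∀ (t : CP A) (p : Ideal A) [p.IsPrime] (hp : p = (s t).asIdeal.comap (algebraMap A B)),
      Function.Bijective (Localization.localRingHom p (s t).asIdeal (algebraMap A B) hp) := by
    intro t p _ hp; subst hp; exact hloc t
  have hp : ∀ t : CP A, (P t).asIdeal = (s t).asIdeal.comap (algebraMap A B) := fun t =>
    (congrArg PrimeSpectrum.asIdeal (hsec t)).symm
  let L := fun t : CP A => RingEquiv.ofBijective _ (hbij t (P t).asIdeal (hp t))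
  let raw : B →ₐ[A] ∀ t, Stalk (pc P) t := AlgHom.pi fun t =>
    { (L t).symm.toRingHom.comp (algebraMap B _) with
      commutes' := fun a => (L t).symm_apply_eq.2
        (Localization.localRingHom_to_map (P t).asIdeal (s t).asIdeal (algebraMap A B) (hp t) a).symm }
  have hL : ∀ t b, L t (raw b t) = algebraMap B _ b := fun t b => (L t).apply_symm_apply _
  have hmem : ∀ b, raw b ∈ germs (pc P) := by
    intro b t
    obtain ⟨a, ⟨g, hg⟩, hag⟩ := IsLocalization.exists_mk'_eq (pc P t) (raw b t)
    have h1 : algebraMap B (Localization.AtPrime (s t).asIdeal) (algebraMap A B g * b - algebraMap A B a) = 0 := by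
      have h2 := congrArg (L t) (IsLocalization.mk'_spec' (Stalk (pc P) t) a ⟨g, hg⟩)
      rw [map_mul, hag, hL, RingEquiv.ofBijective_apply, RingEquiv.ofBijective_apply,
        Localization.localRingHom_to_map, Localization.localRingHom_to_map] at h2
      rw [map_sub, map_mul, h2, sub_self]
    obtain ⟨⟨h, hh⟩, hz⟩ := (IsLocalization.map_eq_zero_iff (s t).asIdeal.primeCompl _ _).1 h1
    refine ⟨{r | g ∈ pc P r} ∩ s ⁻¹' (PrimeSpectrum.basicOpen h : Set (PrimeSpectrum B)),
      (pc_open P (cp_clopen hA) g).inter ((PrimeSpectrum.basicOpen h).2.preimage hs), ⟨hg, hh⟩,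
      a, g, fun r hr => ⟨hr.1, (L r).injective ?_⟩⟩
    have h3 : algebraMap B (Localization.AtPrime (s r).asIdeal) (algebraMap A B g * b - algebraMap A B a) = 0 :=
      (IsLocalization.map_eq_zero_iff (s r).asIdeal.primeCompl _ _).2 ⟨⟨h, hr.2⟩, hz⟩
    rw [map_sub, map_mul, sub_eq_zero] at h3
    rw [map_mul, hL, RingEquiv.ofBijective_apply, RingEquiv.ofBijective_apply,
      Localization.localRingHom_to_map, Localization.localRingHom_to_map]
    exact h3
  exact ⟨(AlgEquiv.ofBijective (Algebra.ofId A (Germ (pc P)))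
    (bijective_algebraMap_germ hA)).symm.toAlgHom.comp (raw.codRestrict _ hmem)⟩

end Groth.Agent.Germs91
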