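import Groth.Agent.Germs91.Basic

universe u

open Topology

namespace Groth.Agent.Germs91

variable {A : Type u} [CommRing A] {T : Type u} [TopologicalSpace T] (S : T → Submonoid A)
  (hS : ∀ g : A, IsOpen {t | g ∈ S t}) [CompactSpace T] [T2Space T] [TotallyDisconnectedSpace T]
include hS

/-- The spectrum carries the topology induced from `Spec A × T`. -/
theorem isEmbedding_comap_pt :
    Topology.IsEmbedding fun q : PrimeSpectrum (Germ S) =>
      (PrimeSpectrum.comap (algebraMap A (Germ S)) q, pt S hS q) := by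
  have hcont : Continuous fun q : PrimeSpectrum (Germ S) =>
      (PrimeSpectrum.comap (algebraMap A (Germ S)) q, pt S hS q) :=
    (PrimeSpectrum.continuous_comap _).prodMk (continuous_pt S hS)
  refine ⟨isInducing_iff_nhds.2 fun q => le_antisymm
    (Filter.map_le_iff_le_comap.1 hcont.continuousAt) ?_, injective_comap_pt S hS⟩
  intro U hU
  obtain ⟨_, ⟨x, rfl⟩, hqx, hxU⟩ :=
    PrimeSpectrum.isTopologicalBasis_basic_opens.mem_nhds_iff.1 hU
  obtain ⟨W, hW, hqW, a, g, hag⟩ := x.2 (pt S hS q)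
  have key : ∀ r : PrimeSpectrum (Germ S), pt S hS r ∈ W →
      (algebraMap A (Germ S) a ∈ r.asIdeal ↔ x ∈ r.asIdeal) := fun r hr => by
    obtain ⟨p, hp⟩ := mem_range_ev S hS r
    have hy : ∀ y, y ∈ r.asIdeal ↔ ev S (pt S hS r) y ∈ p.asIdeal := fun y => by
      conv_lhs => rw [← hp]
      rfl
    rw [hy, hy, AlgHom.commutes, ← (hag _ hr).2]
    exact Ideal.unit_mul_mem_iff_mem _
      (IsLocalization.map_units (Stalk S (pt S hS r)) (⟨g, (hag _ hr).1⟩ : S _))
  rw [Filter.mem_comap]
  refine ⟨(PrimeSpectrum.basicOpen a : Set (PrimeSpectrum A)) ×ˢ W,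
    ((PrimeSpectrum.basicOpen a).2.prod hW).mem_nhds ⟨fun h => hqx ((key q hqW).1 h), hqW⟩, ?_⟩
  rintro r ⟨hra, hrW⟩
  exact hxU fun h => hra ((key r hrW).2 h)

theorem range_comap_pt :
    Set.range (fun q : PrimeSpectrum (Germ S) =>
      (PrimeSpectrum.comap (algebraMap A (Germ S)) q, pt S hS q)) =
      {p : PrimeSpectrum A × T | Disjoint (S p.2 : Set A) p.1.asIdeal} := by
  ext ⟨x, t⟩
  constructor
  · rintro ⟨q, hq⟩
    obtain ⟨h1, h2⟩ := Prod.mk.inj hq
    obtain ⟨p, hp⟩ := mem_range_ev S hS q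
    subst h1 h2
    have h := PrimeSpectrum.localization_comap_range (Stalk S (pt S hS q)) (S (pt S hS q))
    have e : PrimeSpectrum.comap (algebraMap A (Germ S)) q =
        PrimeSpectrum.comap (algebraMap A (Stalk S (pt S hS q))) p := by
      conv_lhs => rw [← hp]
      rw [← PrimeSpectrum.comap_comp_apply, AlgHom.toRingHom_eq_coe, AlgHom.comp_algebraMap]
    show Disjoint (S (pt S hS q) : Set A) _
    rw [e]
    exact (h.subset (Set.mem_range_self p) : _)
  · intro ht
    have h := PrimeSpectrum.localization_comap_range (Stalk S t) (S t)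
    obtain ⟨p, hp⟩ : x ∈ Set.range (PrimeSpectrum.comap (algebraMap A (Stalk S t))) := h ▸ ht
    refine ⟨PrimeSpectrum.comap (ev S t).toRingHom p, Prod.ext ?_ (pt_comap S hS t p)⟩
    show PrimeSpectrum.comap (algebraMap A (Germ S)) (PrimeSpectrum.comap (ev S t).toRingHom p) = x
    rw [← PrimeSpectrum.comap_comp_apply, AlgHom.toRingHom_eq_coe, AlgHom.comp_algebraMap, hp]

end Groth.Agent.Germs91
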