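import Groth.Agent.Germs91.Basic
import Groth.Agent.Ind91.Loc
import Groth.Agent.Ind91.Zar
import Mathlib.Order.Disjointed

universe u

open Topology

namespace Groth.Agent.Germs91

variable {A : Type u} [CommRing A] {T : Type u} [TopologicalSpace T] (S : T → Submonoid A)
  (hS : ∀ g : A, IsOpen {t | g ∈ S t})
include hS

omit hS in
/-- An element of a basic localization gives a locally fractional family. -/
theorem isLocFrac_of_away {T0 : A} {U : Set T} (hU : IsOpen U) (hT0 : ∀ s ∈ U, T0 ∈ S s)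
    (y : Localization.Away T0) (x : ∀ s, Stalk S s)
    (hx : ∀ s ∈ U, ∃ l : Localization.Away T0 →ₐ[A] Stalk S s, l y = x s) {t : T} (ht : t ∈ U) :
    IsLocFrac S x t := by
  obtain ⟨a, m, hm⟩ := IsLocalization.exists_mk'_eq (Submonoid.powers T0) y
  obtain ⟨k, hk⟩ := m.2
  refine ⟨U, hU, ht, a, T0 ^ k, fun s hs => ⟨pow_mem (hT0 s hs) k, ?_⟩⟩
  obtain ⟨l, hl⟩ := hx s hs
  have h := congrArg l (IsLocalization.mk'_spec' (Localization.Away T0) a m)
  rw [map_mul, AlgHom.commutes, AlgHom.commutes, hm, hl, ← hk] at h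
  exact h

variable [CompactSpace T] [T2Space T] [TotallyDisconnectedSpace T]

theorem exists_local_factor {C : Type u} [CommRing C] [Algebra A C]
    [hC : Algebra.FinitePresentation A C] (g : C →ₐ[A] Germ S) (t : T) :
    ∃ (T0 : A) (u : C →ₐ[A] Localization.Away T0) (V : Set T), IsClopen V ∧ t ∈ V ∧
      ∀ s ∈ V, T0 ∈ S s ∧ ∃ l : Localization.Away T0 →ₐ[A] Stalk S s, l.comp u = (ev S s).comp g := by
  classical
  obtain ⟨T0, hT0, u, v, huv⟩ := Ind91.exists_away_factor (S t) ((ev S t).comp g)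
  obtain ⟨n, f, hf, -⟩ := hC.out
  let U : Set T := {s | T0 ∈ S s}
  have hU : IsOpen U := hS T0
  have hunit : ∀ s, s ∈ U → ∀ y : Submonoid.powers T0, IsUnit (Algebra.ofId A (Stalk S s) y) := by
    rintro s hs ⟨_, k, rfl⟩
    exact IsLocalization.map_units (Stalk S s) (⟨T0 ^ k, pow_mem hs k⟩ : S s)
  let y : Fin n → ∀ s, Stalk S s := fun i s => if h : s ∈ U then
    (IsLocalization.liftAlgHom (hunit s h) : Localization.Away T0 →ₐ[A] Stalk S s)
      (u (f (MvPolynomial.X i))) else 0
  have hy : ∀ i, IsLocFrac S (y i) t := fun i =>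
    isLocFrac_of_away S hU (fun s hs => hs) (u (f (MvPolynomial.X i))) (y i)
      (fun s hs => ⟨IsLocalization.liftAlgHom (hunit s hs), by simp only [y, dif_pos hs]⟩) hT0
  have hval : ∀ i, y i t = ev S t (g (f (MvPolynomial.X i))) := fun i => by
    simp only [y, dif_pos (show t ∈ U from hT0)]
    rw [← AlgHom.comp_apply (ev S t) g, ← huv, AlgHom.comp_apply]
    congr 1
    exact IsLocalization.algHom_ext (Submonoid.powers T0) (Subsingleton.elim _ _)
  choose Wi hWo htW hWeq using fun i => eventually_eq S hS (hy i)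
    ((g (f (MvPolynomial.X i))).2 t) (hval i)
  obtain ⟨V, hV, htV, hVsub⟩ := compact_exists_isClopen_in_isOpen
    (hU.inter (isOpen_iInter_of_finite hWo))
    (show t ∈ U ∩ ⋂ i, Wi i from ⟨hT0, Set.mem_iInter.2 htW⟩)
  refine ⟨T0, u, V, hV, htV, fun s hs => ⟨(hVsub hs).1,
    IsLocalization.liftAlgHom (hunit s (hVsub hs).1), ?_⟩⟩
  rw [← AlgHom.cancel_right hf]
  refine MvPolynomial.algHom_ext fun i => ?_
  refine Eq.trans ?_ (hWeq i s (Set.mem_iInter.1 (hVsub hs).2 i))
  simp only [y, AlgHom.comp_apply, dif_pos (hVsub hs).1]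

theorem isIndZariski_germ : EtPBC.IsIndZariski A (Germ S) := by
  classical
  refine (Ind91.isIndZariski_iff A _).2 fun C _ _ _ g => ?_
  choose T0 u V hV htV hl using exists_local_factor S hS g
  obtain ⟨F, hF⟩ := isCompact_univ.elim_finite_subcover V (fun t => (hV t).2)
    fun t _ => Set.mem_iUnion.2 ⟨t, htV t⟩
  let c : Fin F.card → T := fun k => (F.equivFin.symm k : T)
  let D : Fin F.card → Set T := disjointed fun k => V (c k)
  have hDV : ∀ k, D k ⊆ V (c k) := fun k => disjointed_le _ k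
  have hDc : ∀ k, IsClopen (D k) := fun k =>
    disjointedRec (fun {s i} hs => hs.inter (hV _).compl) (hV _)
  have hcov : ∀ s, ∃ k, s ∈ D k := fun s => by
    have : s ∈ ⋃ k, D k := by
      rw [iUnion_disjointed]
      obtain ⟨t, ht, hst⟩ := Set.mem_iUnion₂.1 (hF (Set.mem_univ s))
      exact Set.mem_iUnion.2 ⟨F.equivFin ⟨t, ht⟩, by simpa [c] using hst⟩
    exact Set.mem_iUnion.1 this
  choose idx hidx using hcov
  have huniq : ∀ s k, s ∈ D k → idx s = k := fun s k hk => by
    by_contra hne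
    exact (disjoint_disjointed (fun k => V (c k)) hne).le_bot ⟨hidx s, hk⟩
  choose hT0 l hleq using fun s => hl (c (idx s)) s (hDV _ (hidx s))
  have hW : Algebra.IsLocalIso A (∀ k, Localization.Away (T0 (c k))) :=
    Algebra.IsLocalIso.pi_of_finite A _
  let raw : (∀ k, Localization.Away (T0 (c k))) →ₐ[A] ∀ s, Stalk S s :=
    Pi.algHom A _ fun s => (l s).comp (Pi.evalAlgHom A _ (idx s))
  have hraw : ∀ y, raw y ∈ germs S := fun y t => by
    refine isLocFrac_of_away S (T0 := T0 (c (idx t))) (hDc (idx t)).2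
      (fun s hs => (hl (c (idx t)) s (hDV _ hs)).1) (y (idx t)) _ (fun s hs => ?_) (hidx t)
    have hk := huniq s _ hs
    show ∃ l' : Localization.Away (T0 (c (idx t))) →ₐ[A] Stalk S s, l' (y (idx t)) = l s (y (idx s))
    rw [← hk]
    exact ⟨l s, rfl⟩
  refine ⟨∀ k, Localization.Away (T0 (c k)), inferInstance, inferInstance, hW,
    Pi.algHom A _ fun k => u (c k), raw.codRestrict (germs S) hraw,
    AlgHom.ext fun x => ext_ev S fun s => ?_⟩
  exact AlgHom.congr_fun (hleq s) x

theorem flat_germ : Module.Flat A (Germ S) :=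
  Ind91.flat_of_isIndEtale (Ind91.isIndEtale_of_isIndZariski (isIndZariski_germ S hS))

theorem faithfullyFlat_germ (h : ∀ x : PrimeSpectrum A, ∃ t, Disjoint (S t : Set A) x.asIdeal) :
    Module.FaithfullyFlat A (Germ S) :=
  have := flat_germ S hS
  Module.FaithfullyFlat.of_comap_surjective fun x => by
    have hx : x ∈ Set.range (PrimeSpectrum.comap (algebraMap A (Germ S))) := range_comap S hS ▸ h x
    exact hx

end Groth.Agent.Germs91
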