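import Mathlib.RingTheory.Localization.Defs
import Mathlib.RingTheory.Localization.Basic
import Mathlib.RingTheory.Spectrum.Prime.Topology
import Mathlib.Topology.Separation.Profinite
import Mathlib.Algebra.Algebra.Subalgebra.Pi

universe u

open Topology

namespace Groth.Agent.Germs91

variable {A : Type u} [CommRing A] {T : Type u} [TopologicalSpace T] (S : T → Submonoid A)

/-- The localization at a point of the family. -/
abbrev Stalk (t : T) : Type u := Localization (S t)

/-- A family is locally a fraction near `t`. -/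
def IsLocFrac (x : ∀ t, Stalk S t) (t : T) : Prop :=
  ∃ U : Set T, IsOpen U ∧ t ∈ U ∧ ∃ a g : A, ∀ s ∈ U, g ∈ S s ∧
    algebraMap A (Stalk S s) g * x s = algebraMap A (Stalk S s) a

theorem IsLocFrac.congr {x y : ∀ t, Stalk S t} {t : T} (hx : IsLocFrac S x t) {U : Set T}
    (hU : IsOpen U) (htU : t ∈ U) (h : ∀ s ∈ U, x s = y s) : IsLocFrac S y t := by
  obtain ⟨V, hV, htV, a, g, hag⟩ := hx
  exact ⟨U ∩ V, hU.inter hV, ⟨htU, htV⟩, a, g, fun s hs => ⟨(hag s hs.2).1, h s hs.1 ▸ (hag s hs.2).2⟩⟩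

/-- Locally constant fractions form an algebra. -/
noncomputable def germs : Subalgebra A (∀ t, Stalk S t) where
  carrier := {x | ∀ t, IsLocFrac S x t}
  algebraMap_mem' a t := ⟨Set.univ, isOpen_univ, trivial, a, 1, fun s _ =>
    ⟨(S s).one_mem, by rw [map_one, one_mul, Pi.algebraMap_apply]⟩⟩
  mul_mem' {x y} hx hy t := by
    obtain ⟨U, hU, htU, a, g, hag⟩ := hx t
    obtain ⟨V, hV, htV, b, k, hbk⟩ := hy t
    refine ⟨U ∩ V, hU.inter hV, ⟨htU, htV⟩, a * b, g * k, fun s hs =>
      ⟨(S s).mul_mem (hag s hs.1).1 (hbk s hs.2).1, ?_⟩⟩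
    rw [map_mul, map_mul, ← (hag s hs.1).2, ← (hbk s hs.2).2, Pi.mul_apply]; ring
  add_mem' {x y} hx hy t := by
    obtain ⟨U, hU, htU, a, g, hag⟩ := hx t
    obtain ⟨V, hV, htV, b, k, hbk⟩ := hy t
    refine ⟨U ∩ V, hU.inter hV, ⟨htU, htV⟩, a * k + b * g, g * k, fun s hs =>
      ⟨(S s).mul_mem (hag s hs.1).1 (hbk s hs.2).1, ?_⟩⟩
    rw [map_mul, map_add, map_mul, map_mul, ← (hag s hs.1).2, ← (hbk s hs.2).2, Pi.add_apply]
    ring

/-- The algebra of germs. -/
abbrev Germ : Type u := germs S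

/-- Evaluation at a point. -/
noncomputable def ev (t : T) : Germ S →ₐ[A] Stalk S t :=
  (Pi.evalAlgHom A (fun t => Stalk S t) t).comp (germs S).val

theorem ext_ev {x y : Germ S} (h : ∀ t, ev S t x = ev S t y) : x = y :=
  Subtype.ext (funext h)

variable (hS : ∀ g : A, IsOpen {t | g ∈ S t})
include hS

theorem eventually_eq {x y : ∀ t, Stalk S t} {t : T} (hx : IsLocFrac S x t) (hy : IsLocFrac S y t)
    (h : x t = y t) : ∃ U : Set T, IsOpen U ∧ t ∈ U ∧ ∀ s ∈ U, x s = y s := by
  obtain ⟨U, hU, htU, a, g, hag⟩ := hx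
  obtain ⟨V, hV, htV, b, k, hbk⟩ := hy
  have h0 : algebraMap A (Stalk S t) (a * k) = algebraMap A (Stalk S t) (b * g) := by
    rw [map_mul, map_mul, ← (hag t htU).2, ← (hbk t htV).2, h]; ring
  obtain ⟨⟨c, hc⟩, hce⟩ := (IsLocalization.eq_iff_exists (S t) (Stalk S t)).1 h0
  refine ⟨U ∩ V ∩ {s | c ∈ S s}, (hU.inter hV).inter (hS c), ⟨⟨htU, htV⟩, hc⟩, fun s hs => ?_⟩
  have hu : IsUnit (algebraMap A (Stalk S s) (c * (g * k))) :=
    IsLocalization.map_units _ (⟨_, (S s).mul_mem hs.2
      ((S s).mul_mem (hag s hs.1.1).1 (hbk s hs.1.2).1)⟩ : S s)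
  apply hu.mul_left_cancel
  have h1 := congrArg (algebraMap A (Stalk S s)) hce
  simp only [map_mul] at h1 ⊢
  linear_combination (algebraMap A (Stalk S s) c * algebraMap A (Stalk S s) k) * (hag s hs.1.1).2
    - (algebraMap A (Stalk S s) c * algebraMap A (Stalk S s) g) * (hbk s hs.1.2).2 + h1

omit hS in
/-- The indicator of a clopen set. -/
theorem exists_indicator {V : Set T} (hV : IsClopen V) :
    ∃ e : Germ S, (∀ t ∈ V, ev S t e = 1) ∧ ∀ t ∉ V, ev S t e = 0 := by
  classical
  refine ⟨⟨fun t => if t ∈ V then 1 else 0, fun t => ?_⟩, fun t ht => if_pos ht, fun t ht => if_neg ht⟩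
  by_cases ht : t ∈ V
  · refine ⟨V, hV.2, ht, 1, 1, fun s hs => ⟨(S s).one_mem, ?_⟩⟩
    show _ * (if s ∈ V then (1 : Stalk S s) else 0) = _
    rw [if_pos hs, map_one, mul_one]
  · refine ⟨Vᶜ, hV.1.isOpen_compl, ht, 0, 1, fun s hs => ⟨(S s).one_mem, ?_⟩⟩
    show _ * (if s ∈ V then (1 : Stalk S s) else 0) = _
    rw [if_neg hs, mul_zero, map_zero]

variable [CompactSpace T] [T2Space T] [TotallyDisconnectedSpace T]

theorem ev_surjective (t : T) : Function.Surjective (ev S t) := by
  classical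
  intro r
  obtain ⟨a, ⟨g, hg⟩, rfl⟩ := IsLocalization.exists_mk'_eq (S t) r
  obtain ⟨V, hV, htV, hVg⟩ := compact_exists_isClopen_in_isOpen (hS g) hg
  refine ⟨⟨fun s => if h : s ∈ V then IsLocalization.mk' _ a (⟨g, hVg h⟩ : S s) else 0, fun s => ?_⟩,
    dif_pos htV⟩
  by_cases hs : s ∈ V
  · refine ⟨V, hV.2, hs, a, g, fun w hw => ⟨hVg hw, ?_⟩⟩
    show _ * (if h : w ∈ V then IsLocalization.mk' _ a (⟨g, hVg h⟩ : S w) else 0) = _
    rw [dif_pos hw]
    exact IsLocalization.mk'_spec' (Stalk S w) a ⟨g, hVg hw⟩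
  · refine ⟨Vᶜ, hV.1.isOpen_compl, hs, 0, 1, fun w hw => ⟨(S w).one_mem, ?_⟩⟩
    show _ * (if h : w ∈ V then IsLocalization.mk' _ a (⟨g, hVg h⟩ : S w) else 0) = _
    rw [dif_neg hw, mul_zero, map_zero]

/-- Each prime lies over exactly one point. -/
theorem existsUnique_point (q : Ideal (Germ S)) [hq : q.IsPrime] :
    ∃! t : T, RingHom.ker (ev S t) ≤ q := by
  classical
  refine existsUnique_of_exists_of_unique ?_ fun t t' ht ht' => ?_
  · by_contra hne
    push Not at hne
    simp only [SetLike.not_le_iff_exists] at hne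
    choose x hx hxq using hne
    have key : ∀ t, ∃ V : Set T, IsClopen V ∧ t ∈ V ∧ ∀ s ∈ V, ev S s (x t) = 0 := fun t => by
      obtain ⟨U, hU, htU, hz⟩ := eventually_eq S hS (x := fun s => ev S s (x t)) (y := 0)
        ((x t).2 t) ((germs S).zero_mem t) (hx t)
      obtain ⟨V, hV, htV, hVU⟩ := compact_exists_isClopen_in_isOpen hU htU
      exact ⟨V, hV, htV, fun s hs => hz s (hVU hs)⟩
    choose V hV htV hVx using key
    obtain ⟨F, hF⟩ := isCompact_univ.elim_finite_subcover V (fun t => (hV t).2)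
      fun t _ => Set.mem_iUnion.2 ⟨t, htV t⟩
    choose e he1 he0 using fun t => exists_indicator S (hV t)
    have hzero : ∏ t ∈ F, (1 - e t) = 0 := by
      refine ext_ev S fun s => ?_
      obtain ⟨t, ht, hst⟩ := Set.mem_iUnion₂.1 (hF (Set.mem_univ s))
      rw [map_prod, map_zero]
      exact Finset.prod_eq_zero ht (by rw [map_sub, map_one, he1 t s hst, sub_self])
    obtain ⟨t, -, ht⟩ := (Ideal.IsPrime.prod_mem_iff (p := q)).1 (hzero ▸ q.zero_mem)
    have hxe : x t * e t = 0 := by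
      refine ext_ev S fun s => ?_
      by_cases hs : s ∈ V t
      · rw [map_mul, hVx t s hs, zero_mul, map_zero]
      · rw [map_mul, he0 t s hs, mul_zero, map_zero]
    have het : e t ∈ q := (hq.mem_or_mem (hxe ▸ q.zero_mem)).resolve_left (hxq t)
    exact hq.ne_top ((Ideal.eq_top_iff_one q).2 (by simpa using add_mem ht het))
  · by_contra hne
    obtain ⟨V, hV, htV, htV'⟩ := compact_exists_isClopen_in_isOpen
      (isOpen_compl_singleton (x := t')) hne
    obtain ⟨e, he1, he0⟩ := exists_indicator S hV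
    have h1 : 1 - e ∈ q := ht (by rw [RingHom.mem_ker, map_sub, map_one, he1 t htV, sub_self])
    have h2 : e ∈ q := ht' (by rw [RingHom.mem_ker]; exact he0 t' fun h => htV' h rfl)
    exact hq.ne_top ((Ideal.eq_top_iff_one q).2 (by simpa using add_mem h1 h2))

/-- The point under a prime. -/
noncomputable def pt (q : PrimeSpectrum (Germ S)) : T :=
  (existsUnique_point S hS q.asIdeal).choose

theorem ker_le (q : PrimeSpectrum (Germ S)) : RingHom.ker (ev S (pt S hS q)) ≤ q.asIdeal :=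
  (existsUnique_point S hS q.asIdeal).choose_spec.1

theorem eq_pt {q : PrimeSpectrum (Germ S)} {t : T} (h : RingHom.ker (ev S t) ≤ q.asIdeal) :
    t = pt S hS q :=
  (existsUnique_point S hS q.asIdeal).choose_spec.2 t h

theorem pt_comap (t : T) (p : PrimeSpectrum (Stalk S t)) :
    pt S hS (PrimeSpectrum.comap (ev S t).toRingHom p) = t :=
  (eq_pt S hS fun x hx => by
    show ev S t x ∈ p.asIdeal
    rw [RingHom.mem_ker.1 hx]; exact p.asIdeal.zero_mem).symm

theorem mem_range_ev (q : PrimeSpectrum (Germ S)) :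
    q ∈ Set.range (PrimeSpectrum.comap (ev S (pt S hS q)).toRingHom) := by
  rw [range_comap_of_surjective _ _ (ev_surjective S hS _)]
  exact ker_le S hS q

theorem continuous_pt : Continuous (pt S hS) := by
  rw [(isTopologicalBasis_isClopen (X := T)).continuous_iff]
  intro V hV
  obtain ⟨e, he1, he0⟩ := exists_indicator S hV
  have : pt S hS ⁻¹' V = (PrimeSpectrum.basicOpen e : Set (PrimeSpectrum (Germ S))) := by
    ext q
    rw [Set.mem_preimage, SetLike.mem_coe, PrimeSpectrum.mem_basicOpen]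
    refine ⟨fun h he => q.isPrime.ne_top ((Ideal.eq_top_iff_one _).2 ?_), fun h => ?_⟩
    · have h1 : 1 - e ∈ q.asIdeal :=
        ker_le S hS q (by rw [RingHom.mem_ker, map_sub, map_one, he1 _ h, sub_self])
      simpa using add_mem h1 he
    · by_contra hne
      exact h (ker_le S hS q (by rw [RingHom.mem_ker]; exact he0 _ hne))
  rw [this]; exact (PrimeSpectrum.basicOpen e).2

/-- The image of the spectrum. -/
theorem range_comap :
    Set.range (PrimeSpectrum.comap (algebraMap A (Germ S))) =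
      {x | ∃ t, Disjoint (S t : Set A) x.asIdeal} := by
  ext x
  constructor
  · rintro ⟨q, rfl⟩
    obtain ⟨p, hp⟩ := mem_range_ev S hS q
    refine ⟨pt S hS q, ?_⟩
    have h := PrimeSpectrum.localization_comap_range (Stalk S (pt S hS q)) (S (pt S hS q))
    have e : PrimeSpectrum.comap (algebraMap A (Germ S)) q =
        PrimeSpectrum.comap (algebraMap A (Stalk S (pt S hS q))) p := by
      conv_lhs => rw [← hp]
      rw [← PrimeSpectrum.comap_comp_apply, AlgHom.toRingHom_eq_coe, AlgHom.comp_algebraMap]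
    rw [e]
    exact (h.subset (Set.mem_range_self p) : _)
  · rintro ⟨t, ht⟩
    have h := PrimeSpectrum.localization_comap_range (Stalk S t) (S t)
    obtain ⟨p, hp⟩ : x ∈ Set.range (PrimeSpectrum.comap (algebraMap A (Stalk S t))) := h ▸ ht
    refine ⟨PrimeSpectrum.comap (ev S t).toRingHom p, ?_⟩
    rw [← PrimeSpectrum.comap_comp_apply, AlgHom.toRingHom_eq_coe, AlgHom.comp_algebraMap, hp]

/-- The spectrum embeds in `Spec A × T`. -/
theorem injective_comap_pt :
    Function.Injective fun q : PrimeSpectrum (Germ S) =>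
      (PrimeSpectrum.comap (algebraMap A (Germ S)) q, pt S hS q) := by
  intro q q' h
  obtain ⟨h1, h2⟩ := Prod.mk.inj h
  obtain ⟨p, hp⟩ := mem_range_ev S hS q
  obtain ⟨p', hp'⟩ := mem_range_ev S hS q'
  have key : ∀ (t t' : T), t = t' → ∀ (p : PrimeSpectrum (Stalk S t)) (p' : PrimeSpectrum (Stalk S t')),
      PrimeSpectrum.comap (algebraMap A (Stalk S t)) p = PrimeSpectrum.comap (algebraMap A (Stalk S t')) p' →
      PrimeSpectrum.comap (ev S t).toRingHom p = PrimeSpectrum.comap (ev S t').toRingHom p' := by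
    rintro t _ rfl p p' hpp
    rw [PrimeSpectrum.localization_comap_injective _ (S t) hpp]
  refine hp.symm.trans ((key _ _ h2 p p' ?_).trans hp')
  have e : ∀ (t : T) (p : PrimeSpectrum (Stalk S t)),
      PrimeSpectrum.comap (algebraMap A (Stalk S t)) p =
        PrimeSpectrum.comap (algebraMap A (Germ S)) (PrimeSpectrum.comap (ev S t).toRingHom p) :=
    fun t p => by rw [← PrimeSpectrum.comap_comp_apply, AlgHom.toRingHom_eq_coe, AlgHom.comp_algebraMap]
  rw [e, e, hp, hp']; exact h1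

/-- Evaluations detect units. -/
theorem isUnit_of_forall {x : Germ S} (h : ∀ t, IsUnit (ev S t x)) : IsUnit x := by
  by_contra hn
  obtain ⟨M, hM, hxM⟩ := exists_max_ideal_of_mem_nonunits hn
  obtain ⟨p, hp⟩ := mem_range_ev S hS ⟨M, hM.isPrime⟩
  refine p.isPrime.ne_top (Ideal.eq_top_of_isUnit_mem _ ?_ (h _))
  show x ∈ (PrimeSpectrum.comap (ev S _).toRingHom p).asIdeal
  rw [hp]; exact hxM

end Groth.Agent.Germs91
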