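import Groth.Agent.Germs91.WLocal
import Groth.Prelude.Def_PBC

universe u

open Topology

namespace Groth.Agent.Germs91

variable {A B : Type u} [CommRing A] [CommRing B] [Algebra A B] {T : Type u} [TopologicalSpace T]
  (P : T → PrimeSpectrum B) (hP : ∀ b : B, IsClopen {t | b ∉ (P t).asIdeal})
  (h : EtPBC.IdentifiesLocalRings A B)

/-- The family below a family of primes. -/
abbrev below : T → PrimeSpectrum A := fun t => PrimeSpectrum.comap (algebraMap A B) (P t)

include hP in
theorem below_clopen (a : A) : IsClopen {t | a ∉ (below (A := A) P t).asIdeal} := hP (algebraMap A B a)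

include hP h in
/-- Germs along primes agree when the local rings agree. -/
theorem nonempty_algEquiv_below : Nonempty (Germ (pc (below (A := A) P)) ≃ₐ[A] Germ (pc P)) := by
  classical
  set S := pc (below (A := A) P)
  let L : ∀ t, Stalk S t →ₐ[A] Stalk (pc P) t := fun t =>
    { Localization.localRingHom (below (A := A) P t).asIdeal (P t).asIdeal (algebraMap A B) rfl with
      commutes' := fun a => by
        rw [IsScalarTower.algebraMap_apply A B (Stalk (pc P) t)]
        exact Localization.localRingHom_to_map (below (A := A) P t).asIdeal (P t).asIdeal (algebraMap A B) rfl a }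
  have hL : ∀ t, Function.Bijective (L t) := fun t => h (P t)
  have hLa : ∀ t (a : A), L t (algebraMap A (Stalk S t) a) =
      algebraMap B (Stalk (pc P) t) (algebraMap A B a) := fun t a => by
    rw [AlgHom.commutes, IsScalarTower.algebraMap_apply A B]
  let F : Germ S →ₐ[A] ∀ t, Stalk (pc P) t := AlgHom.pi fun t => (L t).comp (ev S t)
  have hFmem : ∀ x, F x ∈ (germs (pc P)).restrictScalars A := fun x t => by
    obtain ⟨U, hU, htU, a, g, hag⟩ := x.2 t
    refine ⟨U, hU, htU, algebraMap A B a, algebraMap A B g, fun s hs => ⟨(hag s hs).1, ?_⟩⟩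
    rw [← hLa, ← hLa, ← (hag s hs).2, map_mul]
    rfl
  refine ⟨AlgEquiv.ofBijective (F.codRestrict _ hFmem) ⟨fun x y hxy => ext_ev S fun t =>
    (hL t).1 (congrFun (congrArg Subtype.val hxy) t), fun y => ?_⟩⟩
  choose x hx using fun t => (hL t).2 (y.1 t)
  have hmem : x ∈ germs S := fun t => by
    obtain ⟨U, hU, htU, b, k, hbk⟩ := y.2 t
    obtain ⟨w, hw⟩ := (hL t).2 (algebraMap B (Stalk (pc P) t) b)
    obtain ⟨w', hw'⟩ := (hL t).2 (algebraMap B (Stalk (pc P) t) k)
    obtain ⟨a, ⟨g, hg⟩, rfl⟩ := IsLocalization.exists_mk'_eq (S t) w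
    obtain ⟨a', ⟨g', hg'⟩, rfl⟩ := IsLocalization.exists_mk'_eq (S t) w'
    have hloc : ∀ (a g : A) (hg : g ∈ S t) (b : B),
        L t (IsLocalization.mk' (Stalk S t) a ⟨g, hg⟩) = algebraMap B _ b →
        ∃ O : Set T, IsOpen O ∧ t ∈ O ∧ ∀ s ∈ O, g ∈ S s ∧ algebraMap B (Stalk (pc P) s) (algebraMap A B g * b) =
          algebraMap B (Stalk (pc P) s) (algebraMap A B a) := by
      intro a g hg b he
      have h1 : algebraMap B (Stalk (pc P) t) (algebraMap A B g * b) =
          algebraMap B (Stalk (pc P) t) (algebraMap A B a) := by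
        rw [map_mul, ← hLa, ← hLa, ← he, ← map_mul]
        exact congrArg (L t) (IsLocalization.mk'_spec' (Stalk S t) a (⟨g, hg⟩ : S t))
      obtain ⟨⟨c, hc⟩, hce⟩ := (IsLocalization.eq_iff_exists (pc P t) (Stalk (pc P) t)).1 h1
      refine ⟨{s | g ∈ S s} ∩ {s | c ∈ pc P s}, ((hP (algebraMap A B g)).2).inter (hP c).2, ⟨hg, hc⟩,
        fun s hs => ⟨hs.1, (IsLocalization.eq_iff_exists (pc P s) _).2 ⟨⟨c, hs.2⟩, hce⟩⟩⟩
    obtain ⟨O, hO, htO, hOe⟩ := hloc a g hg b hw
    obtain ⟨O', hO', htO', hOe'⟩ := hloc a' g' hg' k hw'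
    have ha' : a' ∈ S t := by
      intro ha
      have hk : algebraMap A B g' * k ∉ (P t).asIdeal := (P t).isPrime.mul_notMem hg' (hbk t htU).1
      have e := (hOe' t htO').2
      have hu : IsUnit (algebraMap B (Stalk (pc P) t) (algebraMap A B a')) :=
        e ▸ IsLocalization.map_units _ (⟨_, hk⟩ : pc P t)
      exact ((IsLocalization.AtPrime.isUnit_to_map_iff (Stalk (pc P) t) (P t).asIdeal _).1 hu) ha
    refine ⟨(U ∩ (O ∩ O')) ∩ {s | a' ∈ S s}, (hU.inter (hO.inter hO')).inter (hP (algebraMap A B a')).2,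
      ⟨⟨htU, htO, htO'⟩, ha'⟩, a * g', g * a', fun s hs => ⟨?_, (hL s).1 ?_⟩⟩
    · exact (S s).mul_mem (hOe s hs.1.2.1).1 hs.2
    · rw [map_mul, hx, hLa, hLa, map_mul, map_mul, map_mul, map_mul, ← (hOe s hs.1.2.1).2,
        ← (hOe' s hs.1.2.2).2, map_mul, map_mul, ← (hbk s hs.1.1).2]
      ring
  exact ⟨⟨x, hmem⟩, Subtype.ext (funext hx)⟩

end Groth.Agent.Germs91
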