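import Groth.Agent.Germs91.IndZariski
import Groth.Agent.Spec91.WLocal
import Groth.Prelude.Def_ProEtW
import Mathlib.RingTheory.LocalRing.MaximalIdeal.Basic
import Mathlib.RingTheory.Localization.AtPrime.Basic

universe u

open Topology

namespace Groth.Agent.Germs91

variable {A : Type u} [CommRing A] {T : Type u} [TopologicalSpace T] (P : T → PrimeSpectrum A)

/-- The submonoids attached to a family of primes. -/
abbrev pc (t : T) : Submonoid A := (P t).asIdeal.primeCompl

variable (hP : ∀ a : A, IsClopen {t | a ∉ (P t).asIdeal})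
include hP

theorem pc_open (g : A) : IsOpen {t | g ∈ pc P t} := (hP g).2

omit hP in
/-- The closed point over `t`. -/
noncomputable def closedPt (t : T) : PrimeSpectrum (Germ (pc P)) :=
  PrimeSpectrum.comap (ev (pc P) t).toRingHom (IsLocalRing.closedPoint (Stalk (pc P) t))

omit hP in
theorem mem_closedPt {t : T} {x : Germ (pc P)} :
    x ∈ (closedPt P t).asIdeal ↔ ¬ IsUnit (ev (pc P) t x) := Iff.rfl

omit hP in
theorem comap_closedPt (t : T) : PrimeSpectrum.comap (algebraMap A (Germ (pc P))) (closedPt P t) = P t := by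
  rw [closedPt, ← PrimeSpectrum.comap_comp_apply, AlgHom.toRingHom_eq_coe, AlgHom.comp_algebraMap]
  ext a
  exact (IsLocalization.AtPrime.to_map_mem_maximal_iff (Stalk (pc P) t) (P t).asIdeal a)

variable [CompactSpace T] [T2Space T] [TotallyDisconnectedSpace T]

theorem pt_closedPt (t : T) : pt (pc P) (pc_open P hP) (closedPt P t) = t :=
  pt_comap _ _ t _

theorem le_closedPt (q : PrimeSpectrum (Germ (pc P))) :
    q.asIdeal ≤ (closedPt P (pt (pc P) (pc_open P hP) q)).asIdeal := by
  obtain ⟨p, hp⟩ := mem_range_ev (pc P) (pc_open P hP) q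
  conv_lhs => rw [← hp]
  exact Ideal.comap_mono (IsLocalRing.le_maximalIdeal p.isPrime.ne_top)

theorem isClosed_iff (q : PrimeSpectrum (Germ (pc P))) :
    IsClosed ({q} : Set (PrimeSpectrum (Germ (pc P)))) ↔
      q = closedPt P (pt (pc P) (pc_open P hP) q) := by
  rw [PrimeSpectrum.isClosed_singleton_iff_isMaximal]
  refine ⟨fun h => PrimeSpectrum.ext
    (h.eq_of_le (closedPt P _).isPrime.ne_top (le_closedPt P hP q)), fun h => ?_⟩
  rw [h]
  exact Ideal.comap_isMaximal_of_surjective (ev (pc P) _).toRingHom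
    (ev_surjective (pc P) (pc_open P hP) _) (K := IsLocalRing.maximalIdeal _)

theorem closedPoints_eq :
    {q : PrimeSpectrum (Germ (pc P)) | IsClosed ({q} : Set (PrimeSpectrum (Germ (pc P))))} =
      PrimeSpectrum.zeroLocus ((⨅ t, (closedPt P t).asIdeal : Ideal (Germ (pc P))) : Set _) := by
  classical
  ext q
  rw [Set.mem_ofPred_eq, isClosed_iff P hP, PrimeSpectrum.mem_zeroLocus, SetLike.coe_subset_coe]
  refine ⟨fun h => ?_, fun h => PrimeSpectrum.ext (le_antisymm (le_closedPt P hP q) ?_)⟩
  · rw [h]; exact iInf_le _ _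
  · intro x hx
    rw [mem_closedPt] at hx
    obtain ⟨a, ⟨g, hg⟩, hag⟩ :=
      IsLocalization.exists_mk'_eq (pc P (pt (pc P) (pc_open P hP) q))
        (ev (pc P) (pt (pc P) (pc_open P hP) q) x)
    have ha : a ∈ (P (pt (pc P) (pc_open P hP) q)).asIdeal := by
      by_contra ha
      refine hx ?_
      rw [← hag, IsLocalization.mk'_eq_mul_mk'_one]
      exact (IsLocalization.map_units _ (⟨a, ha⟩ : pc P _)).mul
        (IsUnit.of_mul_eq_one (algebraMap A _ g) (by rw [IsLocalization.mk'_spec, map_one]))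
    obtain ⟨e, he1, he0⟩ := exists_indicator (pc P) (hP a).compl
    have hin : algebraMap A (Germ (pc P)) a * e ∈ q.asIdeal := by
      refine h (Ideal.mem_iInf.2 fun s => ?_)
      rw [mem_closedPt, map_mul, AlgHom.commutes]
      by_cases hs : a ∈ (P s).asIdeal
      · exact fun hu => (IsLocalization.AtPrime.to_map_mem_maximal_iff (Stalk (pc P) s) (P s).asIdeal a).2
          hs (isUnit_of_mul_isUnit_left hu)
      · rw [he0 s (fun h' => h' hs), mul_zero]
        exact not_isUnit_zero
    obtain ⟨p, hp⟩ := mem_range_ev (pc P) (pc_open P hP) q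
    have key : ∀ y, y ∈ q.asIdeal ↔ ev (pc P) (pt (pc P) (pc_open P hP) q) y ∈ p.asIdeal := fun y => by
      conv_lhs => rw [← hp]
      rfl
    rw [key] at hin ⊢
    rw [map_mul, AlgHom.commutes, he1 _ (fun h' => h' ha), mul_one] at hin
    rw [← hag, IsLocalization.mk'_eq_mul_mk'_one]
    exact Ideal.mul_mem_right _ _ hin

theorem isWLocal : ProEtW.IsWLocal (PrimeSpectrum (Germ (pc P))) := by
  refine ⟨inferInstance, closedPoints_eq P hP ▸ PrimeSpectrum.isClosed_zeroLocus _, fun q => ?_⟩
  refine ⟨closedPt P (pt (pc P) (pc_open P hP) q), ⟨?_, ?_⟩, ?_⟩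
  · rw [isClosed_iff P hP, pt_closedPt P hP]
  · exact (PrimeSpectrum.le_iff_specializes _ _).1 (le_closedPt P hP q)
  · rintro z ⟨hz, hqz⟩
    have hle : RingHom.ker (ev (pc P) (pt (pc P) (pc_open P hP) q)) ≤ z.asIdeal :=
      (ker_le (pc P) (pc_open P hP) q).trans ((PrimeSpectrum.le_iff_specializes q z).2 hqz)
    rw [(isClosed_iff P hP z).1 hz, ← eq_pt (pc P) (pc_open P hP) hle]

theorem bijOn_closedPoints (hinj : Function.Injective P) :
    Set.BijOn (PrimeSpectrum.comap (algebraMap A (Germ (pc P))))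
      (ProEtW.closedPoints (PrimeSpectrum (Germ (pc P)))) (Set.range P) := by
  refine ⟨fun q hq => ?_, fun q hq q' hq' h => ?_, ?_⟩
  · rw [(isClosed_iff P hP q).1 hq, comap_closedPt]; exact Set.mem_range_self _
  · rw [(isClosed_iff P hP q).1 hq, (isClosed_iff P hP q').1 hq', comap_closedPt, comap_closedPt] at h
    rw [(isClosed_iff P hP q).1 hq, (isClosed_iff P hP q').1 hq', hinj h]
  · rintro _ ⟨t, rfl⟩
    exact ⟨closedPt P t, (isClosed_iff P hP _).2 (by rw [pt_closedPt P hP]), comap_closedPt P t⟩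

/-- The connected components are the points of the family. -/
theorem exists_components_homeo :
    ∃ e : ConnectedComponents (PrimeSpectrum (Germ (pc P))) ≃ₜ T,
      ∀ q, e (ConnectedComponents.mk q) = pt (pc P) (pc_open P hP) q := by
  have hc := continuous_pt (pc P) (pc_open P hP)
  let φ := hc.connectedComponentsLift
  have hφ : ∀ q, φ (ConnectedComponents.mk q) = pt (pc P) (pc_open P hP) q :=
    hc.connectedComponentsLift_apply_coe
  have hb : Function.Bijective φ := by
    refine ⟨fun a b hab => ?_, fun t => ⟨ConnectedComponents.mk (closedPt P t), ?_⟩⟩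
    · obtain ⟨⟨q, hq⟩, rfl⟩ := Spec91.surjective_closedPoints_components a
      obtain ⟨⟨q', hq'⟩, rfl⟩ := Spec91.surjective_closedPoints_components b
      simp only at hab ⊢
      rw [hφ, hφ] at hab
      rw [(isClosed_iff P hP q).1 hq, (isClosed_iff P hP q').1 hq', hab]
    · rw [hφ, pt_closedPt P hP]
  exact ⟨Continuous.homeoOfEquivCompactToT2 (f := Equiv.ofBijective φ hb)
    hc.connectedComponentsLift_continuous, hφ⟩

end Groth.Agent.Germs91
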